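import Groth.Agent.EtSplitLib.Sites
import Mathlib.CategoryTheory.Abelian.RightDerived
import Mathlib.Algebra.Homology.ShortComplex.ExactFunctor

/-!
# Exactness of direct images under condition (B)
-/

set_option autoImplicit false
set_option linter.style.haveILetI false
set_option linter.unusedSectionVars false
set_option backward.isDefEq.respectTransparency false
set_option backward.isDefEq.respectTransparency.types false
universe u

open CategoryTheory CategoryTheory.Limits AlgebraicGeometry Opposite

namespace EtSplitLib

variable {X Y : Scheme.{u}} {f : X ⟶ Y}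

theorem push_preservesEpimorphisms (hB : BigSite.PropB f) : (EtCoh.push f).PreservesEpimorphisms := by
  refine ⟨fun {G G'} φ _ => ?_⟩
  haveI : Sheaf.IsLocallySurjective φ := (Sheaf.isLocallySurjective_iff_epi' AddCommGrpCat.{u + 1} φ).2 inferInstance
  refine (Sheaf.isLocallySurjective_iff_epi' AddCommGrpCat.{u + 1} _).1 ?_
  refine (Presheaf.isLocallySurjective_iff_whisker_forget _ _).2 ?_
  haveI := (Presheaf.isLocallySurjective_iff_whisker_forget _ φ.hom).1 ‹_›
  exact isLocallySurjective_bc hB
    ((isSheaf_iff_isSheaf_of_type _ _).1 ((Presheaf.isSheaf_iff_isSheaf_forget _ _ (forget _)).1 G.property))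
    ((isSheaf_iff_isSheaf_of_type _ _).1 ((Presheaf.isSheaf_iff_isSheaf_forget _ _ (forget _)).1 G'.property))
    (Functor.whiskerRight φ.hom (forget _))

theorem isZero_Rpush (hB : BigSite.PropB f) (F : EtCoh.Ab X) (q : ℕ) (hq : 0 < q) :
    IsZero ((EtCoh.Rpush f q).obj F) := by
  haveI := push_preservesEpimorphisms hB
  haveI : (EtCoh.push f).Additive := { }
  haveI : (EtCoh.push f).IsRightAdjoint := (EtCoh.pullPushAdj f).isRightAdjoint
  haveI : PreservesFiniteLimits (EtCoh.push f) := inferInstance
  haveI : (EtCoh.push f).PreservesHomology := by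
    haveI : ((EtCoh.push f)).PreservesEpimorphisms := inferInstance
    exact Functor.preservesHomology_of_preservesEpis_and_kernels _
  obtain ⟨n, rfl⟩ : ∃ n, q = n + 1 := ⟨q - 1, by omega⟩
  let R : InjectiveResolution F := injectiveResolution F
  refine IsZero.of_iso ?_ (R.isoRightDerivedObj (EtCoh.push f) (n + 1))
  exact (ShortComplex.exact_iff_isZero_homology _).1 ((R.cocomplex_exactAt_succ n).map (EtCoh.push f))

end EtSplitLib
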