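import Groth.Agent.EtSplitLib.Integral

/-!
# The conditions (A), (B), (C) for integral morphisms
-/

set_option autoImplicit false
set_option linter.style.haveILetI false
set_option backward.isDefEq.respectTransparency false
universe u

open CategoryTheory CategoryTheory.Limits AlgebraicGeometry WeightLib TopologicalSpace

namespace EtSplitLib

theorem exists_sigma_eq {K : Type u} {U : K → Scheme.{u}} (x : (∐ U : Scheme.{u})) :
    ∃ k y, Sigma.ι U k y = x := by
  obtain ⟨⟨k, y⟩, rfl⟩ := (sigmaMk U).surjective x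
  exact ⟨k, y, (sigmaMk_mk U k y).symm⟩

/-- A morphism on pairwise disjoint opens covering a scheme glues. -/
theorem exists_glue {T U : Scheme.{u}} {μ : Type u} (W : μ → T.Opens)
    (hd : ∀ a b, a ≠ b → Disjoint (W a) (W b)) (hc : (⨆ a, W a) = ⊤)
    (h : ∀ a, (W a : Scheme.{u}) ⟶ U) : ∃ H : T ⟶ U, ∀ a, (W a).ι ≫ H = h a := by
  let 𝒰 := T.openCoverOfIsOpenCover W (.mk hc)
  refine ⟨𝒰.glueMorphisms h fun a b => ?_, fun a => 𝒰.ι_glueMorphisms h _ a⟩
  by_cases hab : a = b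
  · subst hab
    congr 1
    exact (cancel_mono (W a).ι).1 pullback.condition
  · haveI : IsEmpty ↥(pullback (𝒰.f a) (𝒰.f b)) := ⟨fun (z : ↥(pullback (W a).ι (W b).ι)) => by
      have h1 : ((pullback.fst (W a).ι (W b).ι ≫ (W a).ι).base z) ∈ W a := ((pullback.fst (W a).ι (W b).ι).base z).2
      have h2 : ((pullback.fst (W a).ι (W b).ι ≫ (W a).ι).base z) ∈ W b := by
        rw [pullback.condition]
        exact ((pullback.snd (W a).ι (W b).ι).base z).2
      exact Set.disjoint_left.1 (Opens.coe_disjoint.2 (hd a b hab)) h1 h2⟩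
    exact isInitialOfIsEmpty.hom_ext _ _

variable {X Y : Scheme.{u}} (f : X ⟶ Y)

theorem propA_of_lqf [IsSeparated f] [LocallyQuasiFinite f] [LocallyOfFiniteType f] : BigSite.PropA f := by
  intro U g _ u
  let r : GPts (g ≫ f) (gpt u ≫ g ≫ f) := ⟨gpt u, rfl⟩
  obtain ⟨V, v, hv, η', R, s, p, hcl, hdis, hs, hp⟩ :=
    exists_split_sections f g (gpt u ≫ g ≫ f) (fun _ : Unit => r) fun _ _ _ => rfl
  exact ⟨V, v, hv, R (), hcl (), s (), hs (), img (p ()), (congrArg img (hp ()).2).trans (img_gpt u)⟩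

variable [IsIntegralHom f]

theorem propA_of_integral : BigSite.PropA f := by
  intro U g _ u
  obtain ⟨V₀, hV₀, hyV₀, -⟩ := exists_isAffineOpen_mem_and_subset (x := f (g u)) (U := ⊤) trivial
  let j := V₀.ι
  haveI : IsAffine (V₀ : Scheme.{u}) := hV₀
  obtain ⟨w, hw, -⟩ := Scheme.Pullback.exists_preimage_pullback (f := f) (g := j) (g u) ⟨f (g u), hyV₀⟩ rfl
  obtain ⟨z₀, hz₀, -⟩ := Scheme.Pullback.exists_preimage_pullback (f := g) (g := pullback.fst f j) u w hw.symm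
  obtain ⟨U₁, hU₁, hzU₁, -⟩ := exists_isAffineOpen_mem_and_subset (x := z₀) (U := ⊤) trivial
  haveI : IsAffine (U₁ : Scheme.{u}) := hU₁
  haveI : IsIntegralHom (pullback.snd f j) := MorphismProperty.pullback_snd (P := @IsIntegralHom) _ _ ‹_›
  haveI : Etale (pullback.snd g (pullback.fst f j)) := MorphismProperty.pullback_snd (P := @Etale) _ _ ‹_›
  let g₁ := U₁.ι ≫ pullback.snd g (pullback.fst f j)
  obtain ⟨V', v, hv, R, s, hcl, hs, z, hz⟩ := exists_clopen_hom (π := pullback.snd f j) (g := g₁) ⟨z₀, hzU₁⟩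
  let e := pullbackLeftPullbackSndIso f j v
  refine ⟨V', v ≫ j, inferInstance, e.inv ⁻¹ᵁ R, hcl.preimage e.inv.continuous,
    (e.inv ∣_ R) ≫ s ≫ U₁.ι ≫ pullback.fst g (pullback.fst f j), ?_, ?_⟩
  · simp only [Category.assoc]
    rw [pullback.condition, ← Category.assoc U₁.ι, reassoc_of% hs, ← Category.assoc (e.inv ∣_ R), morphismRestrict_ι,
      Category.assoc, pullbackLeftPullbackSndIso_inv_fst]
  · obtain ⟨z', hz'⟩ := (inferInstance : Surjective (e.inv ∣_ R)).surj z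
    refine ⟨z', ?_⟩
    show pullback.fst g (pullback.fst f j) (U₁.ι (s ((e.inv ∣_ R) z'))) = u
    rw [hz', hz]
    exact hz₀

/-- A finite affine refinement over a compact base, through prescribed members. -/
theorem exists_refinement {W T : Scheme.{u}} [CompactSpace W] (k : W ⟶ T) {ι : Type u} (U : ι → Scheme.{u})
    (g : ∀ i, U i ⟶ T) (hg : ∀ i, Etale (g i)) (c : ∀ w : W, Σ i, {x : U i // g i x = k w}) (w₀ : Option W) :
    ∃ (S : Type u) (_ : Finite S) (O : S → Scheme.{u}) (o : ∀ t, O t ⟶ W) (_ : IsAffine (∐ O))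
      (i : S → ι) (a : ∀ t, O t ⟶ U (i t)),
      Etale (Sigma.desc o) ∧ Surjective (Sigma.desc o) ∧ (∀ t, a t ≫ g (i t) = o t ≫ k) ∧
      ∀ w ∈ w₀, ∃ (t : S) (z : O t), o t z = w ∧ (⟨i t, a t z⟩ : Σ i, U i) = ⟨(c w).1, (c w).2.1⟩ := by
  classical
  have hpt : ∀ w, ∃ z : ↥(pullback (g (c w).1) k),
      pullback.fst (g (c w).1) k z = (c w).2.1 ∧ pullback.snd (g (c w).1) k z = w := fun w =>
    Scheme.Pullback.exists_preimage_pullback (c w).2.1 w (c w).2.2
  choose z hz₁ hz₂ using hpt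
  choose O hO hzO using fun w => (exists_isAffineOpen_mem_and_subset (x := z w) (U := ⊤) trivial)
  haveI : ∀ w, Etale (pullback.snd (g (c w).1) k) := fun w =>
    MorphismProperty.pullback_snd (P := @Etale) _ _ (hg _)
  let o : ∀ w, (O w : Scheme.{u}) ⟶ W := fun w => (O w).ι ≫ pullback.snd _ _
  have ho : ∀ w, Etale (o w) := fun w => inferInstance
  obtain ⟨S₀, hS₀⟩ := isCompact_univ.elim_finite_subcover (fun w => Set.range (o w).base)
    (fun w => (o w).isOpenMap.isOpen_range) fun w _ => Set.mem_iUnion.2 ⟨w, ⟨z w, (hzO w).1⟩, hz₂ w⟩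
  let S₁ := S₀ ∪ w₀.toFinset
  haveI : ∀ t : ↥S₁, IsAffine (O t.1 : Scheme.{u}) := fun t => hO t.1
  refine ⟨↥S₁, inferInstance, fun t => (O t.1 : Scheme.{u}), fun t => o t.1, inferInstance, fun t => (c t.1).1,
    fun t => (O t.1).ι ≫ pullback.fst _ _, IsZariskiLocalAtSource.sigmaDesc (P := @Etale) fun t => ho t.1, ⟨fun w => ?_⟩,
    fun t => by simp [o, pullback.condition], fun w hw => ?_⟩
  · obtain ⟨w', hw', x, hx⟩ := Set.mem_iUnion₂.1 (hS₀ (Set.mem_univ w))
    let t : ↥S₁ := ⟨w', Finset.mem_union_left _ hw'⟩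
    have key : ∀ (t : ↥S₁) (y : (O t.1 : Scheme.{u})), o t.1 y = w →
        w ∈ Set.range (Sigma.desc fun t : ↥S₁ => o t.1).base := fun t y hy => by
      rw [← hy, ← Sigma.ι_desc (fun t : ↥S₁ => o t.1) t, Scheme.Hom.comp_apply]
      exact ⟨_, rfl⟩
    exact key t x hx
  · exact ⟨⟨w, Finset.mem_union_right _ (Option.mem_toFinset.2 hw)⟩, ⟨z w, (hzO w).1⟩, hz₂ w, congrArg (Sigma.mk (c w).1) (hz₁ w)⟩

theorem propB_of_integral : BigSite.PropB f := by
  intro V v hv ι U g hg hcov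
  suffices H : ∀ y : V, ∃ (V' : Scheme.{u}) (v' : V' ⟶ V) (_ : Etale v') (μ : Type u)
      (W : μ → (pullback f (v' ≫ v)).Opens), y ∈ Set.range v'.base ∧
      (∀ a b, a ≠ b → Disjoint (W a) (W b)) ∧ (⨆ a, W a) = ⊤ ∧
      ∀ a, ∃ (i : ι) (h : ((W a : (pullback f (v' ≫ v)).Opens) : Scheme.{u}) ⟶ U i),
          h ≫ g i = (W a).ι ≫ pullback.map f (v' ≫ v) f v (𝟙 X) v' (𝟙 Y) (by simp) (by simp) by
    choose V' v' hv' μ W hy hd hc hW using H
    exact ⟨V, V', v', hv', fun y => ⟨y, hy y⟩, fun y => ⟨μ y, W y, hd y, hc y, hW y⟩⟩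
  intro y
  classical
  obtain ⟨V₀, hV₀, hyV₀, -⟩ := exists_isAffineOpen_mem_and_subset (x := y) (U := ⊤) trivial
  haveI : IsAffine (V₀ : Scheme.{u}) := hV₀
  let j := V₀.ι ≫ v
  haveI : IsIntegralHom (pullback.snd f j) := MorphismProperty.pullback_snd (P := @IsIntegralHom) _ _ ‹_›
  haveI : IsAffine (pullback f j) := isAffine_of_isAffineHom (pullback.snd f j)
  let k : pullback f j ⟶ pullback f v := pullback.map _ _ _ _ (𝟙 X) V₀.ι (𝟙 Y) (by simp) (by simp [j])
  choose i x hx using hcov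
  obtain ⟨S, _, O, o, _, iS, a, hoe, hos, ha, -⟩ :=
    exists_refinement k U g hg (fun w => ⟨i (k w), x (k w), hx (k w)⟩) none
  haveI := hoe; haveI := hos
  obtain ⟨V', v', hv', κ, R, s, hy, hd, hc, hs, -⟩ :=
    exists_split_cover (π := pullback.snd f j) (g := Sigma.desc o) (gpt (⟨y, hyV₀⟩ : (V₀ : Scheme.{u}))) none
  rw [img_gpt] at hy
  let e : pullback f ((v' ≫ V₀.ι) ≫ v) ≅ pullback (pullback.snd f j) v' :=
    pullback.congrHom rfl (Category.assoc _ _ _) ≪≫ (pullbackLeftPullbackSndIso f j v').symm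
  let W : κ × S → (pullback f ((v' ≫ V₀.ι) ≫ v)).Opens := fun q =>
    e.hom ⁻¹ᵁ ((R q.1).ι ''ᵁ (s q.1 ⁻¹ᵁ (Sigma.ι O q.2).opensRange))
  refine ⟨V', v' ≫ V₀.ι, inferInstance, κ × S, W, ?_, fun p q hpq => ?_, ?_, fun q => ?_⟩
  · obtain ⟨y', hy'⟩ := hy
    exact ⟨y', congrArg V₀.ι.base hy'⟩
  · rw [← Opens.coe_disjoint]
    refine Disjoint.preimage _ (Set.disjoint_left.2 ?_)
    rintro b ⟨z, hz, hzz⟩ ⟨z', hz', hzz'⟩
    by_cases h1 : p.1 = q.1
    · obtain ⟨p1, p2⟩ := p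
      obtain ⟨q1, q2⟩ := q
      subst h1
      obtain rfl := (R p1).ι.isOpenEmbedding.injective (hzz'.trans hzz.symm)
      exact Set.disjoint_left.1 (Opens.coe_disjoint.2 (disjoint_opensRange_sigmaι O p2 q2 fun h => hpq (by subst h; rfl))) hz hz'
    · exact Set.disjoint_left.1 (Opens.coe_disjoint.2 (hd _ _ h1)) z.2 (show (R p.1).ι z ∈ R q.1 from hzz.symm ▸ hzz' ▸ z'.2)
  · refine top_le_iff.1 fun z _ => ?_
    obtain ⟨c, hzc⟩ := Opens.mem_iSup.1 (show e.hom z ∈ (⨆ c, R c) by rw [hc]; trivial)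
    obtain ⟨t, w, hw⟩ := exists_sigma_eq (U := O) (s c ⟨_, hzc⟩)
    exact Opens.mem_iSup.2 ⟨(c, t), ⟨_, hzc⟩, ⟨w, hw⟩, rfl⟩
  · obtain ⟨c, t⟩ := q
    let m : ((W (c, t)) : Scheme.{u}) ⟶ (R c : Scheme.{u}) := IsOpenImmersion.lift (R c).ι ((W (c, t)).ι ≫ e.hom) (by
      rintro _ ⟨z, rfl⟩
      obtain ⟨z', -, hz'⟩ := z.2
      exact ⟨z', hz'⟩)
    have hm : m ≫ (R c).ι = (W (c, t)).ι ≫ e.hom := IsOpenImmersion.lift_fac _ _ _
    let n : ((W (c, t)) : Scheme.{u}) ⟶ O t := IsOpenImmersion.lift (Sigma.ι O t) (m ≫ s c) (by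
      rintro _ ⟨z, rfl⟩
      obtain ⟨z', hz', hz''⟩ := z.2
      have : m z = z' := (R c).ι.isOpenEmbedding.injective (by
        rw [← Scheme.Hom.comp_apply, hm]; exact hz''.symm)
      rw [Scheme.Hom.comp_apply, this]
      exact hz')
    have hn : n ≫ Sigma.ι O t = m ≫ s c := IsOpenImmersion.lift_fac _ _ _
    refine ⟨iS t, n ≫ a t, ?_⟩
    have hno : n ≫ o t = (W (c, t)).ι ≫ e.hom ≫ pullback.fst (pullback.snd f j) v' := by
      rw [← Sigma.ι_desc o t, reassoc_of% hn, hs, reassoc_of% hm]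
    refine (Category.assoc _ _ _).trans ((congrArg (n ≫ ·) (ha t)).trans ((Category.assoc _ _ _).symm.trans
      ((congrArg (· ≫ k) hno).trans ((Category.assoc _ _ _).trans (congrArg ((W (c, t)).ι ≫ ·) ?_)))))
    refine pullback.hom_ext ?_ ?_
    · simp [k, e, j]
    · simp [k, e, j, ← pullback.condition_assoc, Category.assoc]

theorem propC_of_integral (hf : Topology.IsClosedEmbedding f.base) : BigSite.PropC f := by
  intro U g _
  classical
  suffices H : ∀ u : U, ∃ (V : Scheme.{u}) (v : V ⟶ Y) (_ : Etale v) (h : pullback f v ⟶ U),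
      h ≫ g = pullback.fst f v ∧ u ∈ Set.range h.base by
    choose V v hv h hg hu using H
    let V' := ∐ V
    let v' : V' ⟶ Y := Sigma.desc v
    haveI : Etale v' := IsZariskiLocalAtSource.sigmaDesc (P := @Etale) hv
    let W : U → (pullback f v').Opens := fun u => pullback.snd f v' ⁻¹ᵁ (Sigma.ι V u).opensRange
    let κ : ∀ u, (W u : Scheme.{u}) ⟶ pullback f (v u) := fun u =>
      pullback.lift ((W u).ι ≫ pullback.fst f v')
        (IsOpenImmersion.lift (Sigma.ι V u) ((W u).ι ≫ pullback.snd f v') (by rintro _ ⟨z, rfl⟩; exact z.2)) (by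
          rw [Category.assoc, pullback.condition, ← Sigma.ι_desc v u, IsOpenImmersion.lift_fac_assoc]; exact (Category.assoc _ _ _).symm)
    obtain ⟨H, hH⟩ := exists_glue W (fun a b hab => by
        rw [← Opens.coe_disjoint]
        exact (Opens.coe_disjoint.2 (disjoint_opensRange_sigmaι V a b hab)).preimage _)
      (top_le_iff.1 fun z _ => by
        obtain ⟨t, w, hw⟩ := exists_sigma_eq (U := V) (pullback.snd f v' z)
        exact Opens.mem_iSup.2 ⟨t, w, hw⟩) (fun u => κ u ≫ h u)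
    refine ⟨V', v', inferInstance, H, ?_, ⟨fun u => ?_⟩⟩
    · refine Scheme.Cover.hom_ext ((pullback f v').openCoverOfIsOpenCover W (.mk (top_le_iff.1 fun z _ => by
        obtain ⟨t, w, hw⟩ := exists_sigma_eq (U := V) (pullback.snd f v' z)
        exact Opens.mem_iSup.2 ⟨t, w, hw⟩))) _ _ fun u => ?_
      show (W u).ι ≫ H ≫ g = (W u).ι ≫ pullback.fst f v'
      rw [reassoc_of% (hH u), hg, pullback.lift_fst]
    · obtain ⟨z, hz⟩ := hu u
      let m : pullback f (v u) ⟶ pullback f v' :=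
        pullback.map _ _ _ _ (𝟙 X) (Sigma.ι V u) (𝟙 Y) (by simp) (by simp [v'])
      have hm : m z ∈ W u := by
        show pullback.snd f v' (m z) ∈ (Sigma.ι V u).opensRange
        rw [← Scheme.Hom.comp_apply, pullback.lift_snd]
        exact ⟨pullback.snd f (v u) z, rfl⟩
      have hrange : Set.range m.base ⊆ Set.range (W u).ι.base := by
        rintro _ ⟨x, rfl⟩
        rw [Scheme.Opens.range_ι]
        show pullback.snd f v' (m x) ∈ (Sigma.ι V u).opensRange
        rw [← Scheme.Hom.comp_apply, pullback.lift_snd]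
        exact ⟨pullback.snd f (v u) x, rfl⟩
      have : IsOpenImmersion.lift (W u).ι m hrange ≫ κ u = 𝟙 _ := by
        refine pullback.hom_ext ?_ ?_
        · simp [κ, m]
        · rw [← cancel_mono (Sigma.ι V u)]
          simp [κ, m]
      refine ⟨m z, ?_⟩
      calc H (m z) = (IsOpenImmersion.lift (W u).ι m hrange ≫ (W u).ι ≫ H) z := by
            rw [IsOpenImmersion.lift_fac_assoc]; rfl
        _ = u := by rw [hH, reassoc_of% this, hz]
  intro u
  obtain ⟨O', hO', hpre⟩ := hf.isInducing.isOpen_iff.1 g.isOpenMap.isOpen_range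
  have hyO : f (g u) ∈ (⟨O', hO'⟩ : Y.Opens) := hpre.ge ⟨u, rfl⟩
  obtain ⟨V₀, hV₀, hyV₀, hV₀O⟩ := exists_isAffineOpen_mem_and_subset hyO
  haveI : IsAffine (V₀ : Scheme.{u}) := hV₀
  let j := V₀.ι
  haveI : IsIntegralHom (pullback.snd f j) := MorphismProperty.pullback_snd (P := @IsIntegralHom) _ _ ‹_›
  haveI : IsAffine (pullback f j) := isAffine_of_isAffineHom (pullback.snd f j)
  have hall : ∀ w : ↥(pullback f j), ∃ x : U, g x = pullback.fst f j w ∧ (pullback.fst f j w = g u → x = u) := fun w => by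
    by_cases h : pullback.fst f j w = g u
    · exact ⟨u, h.symm, fun _ => rfl⟩
    · obtain ⟨x, hx⟩ : pullback.fst f j w ∈ Set.range g.base := hpre.le (hV₀O (by
        show (pullback.fst f j ≫ f) w ∈ V₀
        rw [pullback.condition]
        exact (pullback.snd f j w).2))
      exact ⟨x, hx, fun h' => absurd h' h⟩
  choose x hx hxu using hall
  obtain ⟨w₀, hw₀, -⟩ := Scheme.Pullback.exists_preimage_pullback (f := f) (g := j) (g u) ⟨f (g u), hyV₀⟩ rfl
  obtain ⟨S, _, O, o, _, iS, a, hoe, hos, ha, hw⟩ :=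
    exists_refinement (ι := PUnit.{u + 1}) (pullback.fst f j) (fun _ => U) (fun _ => g) (fun _ => ‹Etale g›)
      (fun w => ⟨PUnit.unit, x w, hx w⟩) (some w₀)
  haveI := hoe; haveI := hos
  obtain ⟨t, z, hz, hze⟩ := hw w₀ rfl
  have hzu : a t z = u := (eq_of_heq (Sigma.mk.inj_iff.1 hze).2).trans (hxu w₀ hw₀)
  let p := gpt ((Sigma.ι O t) z)
  obtain ⟨V', v', hv', κ, R, s, -, hd, hc, hs, hmem⟩ :=
    exists_split_cover (π := pullback.snd f j) (g := Sigma.desc o) (p ≫ Sigma.desc o ≫ pullback.snd f j) (some ⟨p, rfl⟩)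
  obtain ⟨c, zc, hzc⟩ := hmem _ rfl
  obtain ⟨H, hH⟩ := exists_glue R hd hc s
  let e := pullbackLeftPullbackSndIso f j v'
  have hHo : H ≫ Sigma.desc o = pullback.fst (pullback.snd f j) v' := by
    refine Scheme.Cover.hom_ext ((pullback (pullback.snd f j) v').openCoverOfIsOpenCover R (.mk hc)) _ _ fun c => ?_
    show (R c).ι ≫ H ≫ Sigma.desc o = (R c).ι ≫ _
    rw [reassoc_of% (hH c), hs]
  refine ⟨V', v' ≫ j, inferInstance, e.inv ≫ H ≫ Sigma.desc a, ?_, e.hom ((R c).ι zc), ?_⟩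
  · have : Sigma.desc a ≫ g = Sigma.desc o ≫ pullback.fst f j := Sigma.hom_ext _ _ fun t => by simp [ha t]
    rw [Category.assoc, Category.assoc, this, reassoc_of% hHo, pullbackLeftPullbackSndIso_inv_fst]
  · rw [← Scheme.Hom.comp_apply, Iso.hom_inv_id_assoc, ← Scheme.Hom.comp_apply, reassoc_of% (hH c),
      Scheme.Hom.comp_apply, hzc, img_gpt, ← Scheme.Hom.comp_apply, Sigma.ι_desc]
    exact hzu

end EtSplitLib
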