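import Groth.Agent.EtShLib.Point
import Groth.Prelude.Def_BigSite
import Groth.Prelude.Def_SGA4b
import Mathlib.CategoryTheory.Sites.LocallySurjective
import Mathlib.CategoryTheory.Adjunction.FullyFaithful
import Mathlib.CategoryTheory.Sites.EpiMono

/-!
# Direct images along morphisms satisfying the conditions (A), (B), (C)
-/

set_option autoImplicit false
set_option linter.style.haveILetI false
set_option linter.unusedSectionVars false
set_option backward.isDefEq.respectTransparency false
set_option backward.isDefEq.respectTransparency.types false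
universe u

open CategoryTheory CategoryTheory.Limits AlgebraicGeometry Opposite TopologicalSpace

namespace EtSplitLib

variable {X Y : Scheme.{u}}

/-- An open subscheme of an object of the small étale site. -/
noncomputable abbrev openObj (E : X.Etale) (W : E.left.Opens) : X.Etale :=
  MorphismProperty.Over.mk ⊤ (W.ι ≫ E.hom) (by haveI : Etale E.hom := E.prop; infer_instance)

/-- Its inclusion. -/
noncomputable abbrev openHom (E : X.Etale) (W : E.left.Opens) : openObj E W ⟶ E :=
  MorphismProperty.Over.homMk W.ι rfl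

theorem ofArrows_mem (E : X.Etale) {ι : Type*} (Z : ι → X.Etale) (g : ∀ i, Z i ⟶ E)
    (h : ∀ z : E.left, ∃ i, z ∈ Set.range (g i).left.base) :
    Sieve.ofArrows Z g ∈ X.smallEtaleTopology E :=
  (Scheme.ofArrows_mem_smallEtaleTopology_iff g).2 (Set.eq_univ_of_forall fun z => Set.mem_iUnion.2 (h z))

theorem exists_local (E : X.Etale) {S : Sieve E} (hS : S ∈ X.smallEtaleTopology E) (z : E.left) :
    ∃ (T : X.Etale) (t : T ⟶ E) (y : T.left), S t ∧ t.left.base y = z := by
  have eX : X.smallEtaleTopology = (X.smallPretopology (P := EtCoh.etaleMP) (Q := EtCoh.etaleMP)).toGrothendieck :=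
    Scheme.smallGrothendieckTopology_eq_toGrothendieck_smallPretopology X le_rfl
  rw [eX] at hS
  obtain ⟨T, t, y, ht, -, hy⟩ := (Scheme.mem_toGrothendieck_smallPretopology E S).1 hS z
  exact ⟨T, t, y, ht, hy⟩

theorem bot_mem (Z : X.Etale) [IsEmpty Z.left] : (⊥ : Sieve Z) ∈ X.smallEtaleTopology Z := by
  refine GrothendieckTopology.superset_covering _ ?_ (ofArrows_mem Z (fun i : PEmpty.{1} => i.elim) (fun i => i.elim)
    fun z => isEmptyElim z)
  rintro _ _ ⟨_, _, _, ⟨i⟩, _⟩
  exact i.elim

variable {P P' : X.Etaleᵒᵖ ⥤ Type (u + 1)}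

theorem eq_of_isEmpty (hP : Presieve.IsSheaf X.smallEtaleTopology P) (Z : X.Etale) [IsEmpty Z.left]
    (a b : P.obj (op Z)) : a = b :=
  (hP _ (bot_mem Z)).isSeparatedFor.ext fun _ _ hf => hf.elim

theorem eq_of_cover (hP : Presieve.IsSheaf X.smallEtaleTopology P) (E : X.Etale) {ι : Type*} (Z : ι → X.Etale)
    (g : ∀ i, Z i ⟶ E) (h : ∀ z : E.left, ∃ i, z ∈ Set.range (g i).left.base) (a b : P.obj (op E))
    (hab : ∀ i, P.map (g i).op a = P.map (g i).op b) : a = b :=
  (hP _ (ofArrows_mem E Z g h)).isSeparatedFor.ext (by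
    rintro T _ ⟨_, q, _, ⟨i⟩, rfl⟩
    rw [op_comp, Functor.map_comp_apply, Functor.map_comp_apply, hab i])

theorem exists_amalg (hP : Presieve.IsSheaf X.smallEtaleTopology P) (E : X.Etale) {μ : Type*}
    (W : μ → E.left.Opens) (hd : ∀ a b, a ≠ b → Disjoint (W a) (W b)) (hc : (⨆ a, W a) = ⊤)
    (t : ∀ a, P.obj (op (openObj E (W a)))) : ∃ s, ∀ a, P.map (openHom E (W a)).op s = t a := by
  have hmem := ofArrows_mem E (fun a => openObj E (W a)) (fun a => openHom E (W a)) fun z => by
    obtain ⟨a, ha⟩ := Opens.mem_iSup.1 (show z ∈ ⨆ a, W a by rw [hc]; trivial)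
    exact ⟨a, ⟨z, ha⟩, rfl⟩
  have hsh : (Presieve.ofArrows _ fun a => openHom E (W a)).IsSheafFor P := by
    rw [Presieve.isSheafFor_iff_generate]
    exact hP _ hmem
  obtain ⟨s, hs, -⟩ := (Presieve.isSheafFor_arrows_iff _ _).1 hsh t fun a b Z ga gb hg => by
    by_cases hab : a = b
    · subst hab
      have hl : ga.left ≫ (W a).ι = gb.left ≫ (W a).ι := congrArg (fun q : Z ⟶ E => q.left) hg
      have : ga = gb := MorphismProperty.Over.Hom.ext ((cancel_mono (W a).ι).1 hl)
      rw [this]
    · haveI : IsEmpty Z.left := ⟨fun z => by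
        have hl : (W a).ι.base (ga.left.base z) = (W b).ι.base (gb.left.base z) :=
          congrArg (fun q : Z ⟶ E => q.left.base z) hg
        refine Set.disjoint_left.1 (Opens.coe_disjoint.2 (hd a b hab)) (ga.left.base z).2 ?_
        show (W a).ι.base (ga.left.base z) ∈ W b
        rw [hl]
        exact (gb.left.base z).2⟩
      exact eq_of_isEmpty hP Z _ _
  exact ⟨s, hs⟩

variable (f : X ⟶ Y)

theorem symm_inv_map_symm_hom {W W' : Y.Etale} (φ : W' ⟶ W) :
    ((EtCoh.bc f).map φ).left = (pullbackSymmetry f W'.hom).inv ≫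
      pullback.map f W'.hom f W.hom (𝟙 X) φ.left (𝟙 Y) (by simp) (by simp) ≫
        (pullbackSymmetry f W.hom).hom := by
  refine pullback.hom_ext ?_ ?_
  · refine (EtCoh.isPullback_bc_map f φ).w.trans ?_
    simp
  · dsimp [EtCoh.bc]
    simp

variable {f}

/-- (B) makes direct images preserve local surjectivity. -/
theorem isLocallySurjective_bc (hB : BigSite.PropB f) (hP : Presieve.IsSheaf X.smallEtaleTopology P)
    (hP' : Presieve.IsSheaf X.smallEtaleTopology P') (η : P ⟶ P')
    [Presheaf.IsLocallySurjective X.smallEtaleTopology η] :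
    Presheaf.IsLocallySurjective Y.smallEtaleTopology (Functor.whiskerLeft (EtCoh.bc f).op η) where
  imageSieve_mem {W} s := by
    let E : X.Etale := (EtCoh.bc f).obj W
    choose T t y hT hy using exists_local E (Presheaf.imageSieve_mem X.smallEtaleTopology η (U := op E) s)
    let σ : pullback f W.hom ≅ E.left := pullbackSymmetry f W.hom
    haveI : Etale W.hom := W.prop
    haveI : ∀ z, Etale (t z).left := fun z => Groth.Agent.EtShLib.etale_left (t z)
    obtain ⟨κ, V, v, hv, hvc, hdec⟩ := hB W.left W.hom ↥E.left (fun z => (T z).left) (fun z => (t z).left ≫ σ.inv)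
      (fun z => inferInstance) fun x => ⟨σ.hom x, y _, by
        rw [Scheme.Hom.comp_apply, hy, ← Scheme.Hom.comp_apply, Iso.hom_inv_id]; rfl⟩
    let W' : κ → Y.Etale := fun j => MorphismProperty.Over.mk ⊤ (v j ≫ W.hom) (by
      haveI := hv j; infer_instance)
    let φ : ∀ j, W' j ⟶ W := fun j => MorphismProperty.Over.homMk (v j) rfl
    refine GrothendieckTopology.superset_covering _ ?_ (ofArrows_mem W W' φ hvc)
    rintro _ _ ⟨_, q, _, ⟨j⟩, rfl⟩
    refine Sieve.downward_closed _ ?_ q
    obtain ⟨μ, U, hd, hc, hU⟩ := hdec j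
    choose i h hh using hU
    let σj : pullback f (v j ≫ W.hom) ≅ ((EtCoh.bc f).obj (W' j)).left := pullbackSymmetry f (v j ≫ W.hom)
    let U' : μ → ((EtCoh.bc f).obj (W' j)).left.Opens := fun a => σj.inv ⁻¹ᵁ U a
    have hk : ∀ a, ((σj.inv ∣_ U a) ≫ h a) ≫ (t (i a)).left = (U' a).ι ≫ ((EtCoh.bc f).map (φ j)).left := fun a => by
      rw [Category.assoc, ← cancel_mono σ.inv, Category.assoc, Category.assoc, hh a, ← Category.assoc,
        morphismRestrict_ι, Category.assoc, Category.assoc, symm_inv_map_symm_hom f (φ j)]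
      simp [σ, σj, W', φ, U', E]
      rfl
    let k : ∀ a, openObj ((EtCoh.bc f).obj (W' j)) (U' a) ⟶ T (i a) := fun a =>
      MorphismProperty.Over.homMk ((σj.inv ∣_ U a) ≫ h a) (by
        rw [← MorphismProperty.Over.w (t (i a)), ← Category.assoc, hk a, Category.assoc,
          MorphismProperty.Over.w ((EtCoh.bc f).map (φ j))]; rfl)
    have hk' : ∀ a, k a ≫ t (i a) = openHom _ (U' a) ≫ (EtCoh.bc f).map (φ j) := fun a =>
      MorphismProperty.Over.Hom.ext (hk a)
    choose r hr using hT
    obtain ⟨s', hs'⟩ := exists_amalg hP _ U'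
      (fun a b hab => by
        rw [← Opens.coe_disjoint]
        exact (Opens.coe_disjoint.2 (hd a b hab)).preimage _)
      (top_le_iff.1 fun z _ => by
        obtain ⟨a, ha⟩ := Opens.mem_iSup.1 (show σj.inv z ∈ ⨆ a, U a by rw [hc]; trivial)
        exact Opens.mem_iSup.2 ⟨a, ha⟩)
      fun a => P.map (k a).op (r (i a))
    refine ⟨s', eq_of_cover hP' _ (fun a => openObj _ (U' a)) (fun a => openHom _ (U' a)) (fun z => ?_) _ _
      fun a => ?_⟩
    · obtain ⟨a, ha⟩ := Opens.mem_iSup.1 (show σj.inv z ∈ ⨆ a, U a by rw [hc]; trivial)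
      exact ⟨a, ⟨z, ha⟩, rfl⟩
    · show P'.map (openHom _ (U' a)).op (η.app _ s') =
        P'.map (openHom _ (U' a)).op (P'.map ((EtCoh.bc f).map (φ j)).op s)
      rw [← NatTrans.naturality_apply, hs', NatTrans.naturality_apply, hr, ← Functor.map_comp_apply, ← op_comp,
        hk', op_comp, Functor.map_comp_apply]

/-- (C) makes direct images reflect injectivity on sections. -/
theorem injective_of_propC (hC : BigSite.PropC f) (hP : Presieve.IsSheaf X.smallEtaleTopology P) (η : P ⟶ P')
    (hη : ∀ V : Y.Etale, Function.Injective (η.app (op ((EtCoh.bc f).obj V)))) (U : X.Etale) :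
    Function.Injective (η.app (op U)) := by
  intro a b hab
  haveI : Etale U.hom := U.prop
  obtain ⟨V, v, hv, h, hh, hs⟩ := hC U.left U.hom
  let V' : Y.Etale := MorphismProperty.Over.mk ⊤ v hv
  let k : (EtCoh.bc f).obj V' ⟶ U := MorphismProperty.Over.homMk ((pullbackSymmetry v f).hom ≫ h) (by
    rw [Category.assoc]
    exact (congrArg ((pullbackSymmetry v f).hom ≫ ·) hh).trans (pullbackSymmetry_hom_comp_fst v f))
  refine eq_of_cover hP U (fun _ : Unit => (EtCoh.bc f).obj V') (fun _ => k) (fun z => ⟨(), ?_⟩) a b fun _ => ?_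
  · obtain ⟨w, hw⟩ := hs.surj z
    refine ⟨(pullbackSymmetry v f).inv w, ?_⟩
    show ((pullbackSymmetry v f).hom ≫ h).base ((pullbackSymmetry v f).inv.base w) = z
    rw [← Scheme.Hom.comp_apply, Iso.inv_hom_id_assoc]
    exact hw
  · apply hη V'
    rw [NatTrans.naturality_apply, NatTrans.naturality_apply, hab]

/-- (C) makes direct images reflect local surjectivity. -/
theorem isLocallySurjective_of_propC (hC : BigSite.PropC f) (η : P ⟶ P')
    [Presheaf.IsLocallySurjective Y.smallEtaleTopology (Functor.whiskerLeft (EtCoh.bc f).op η)] :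
    Presheaf.IsLocallySurjective X.smallEtaleTopology η where
  imageSieve_mem {U} s := by
    haveI : Etale U.hom := U.prop
    obtain ⟨V, v, hv, h, hh, hs⟩ := hC U.left U.hom
    let V' : Y.Etale := MorphismProperty.Over.mk ⊤ v hv
    let k : (EtCoh.bc f).obj V' ⟶ U := MorphismProperty.Over.homMk ((pullbackSymmetry v f).hom ≫ h) (by
      rw [Category.assoc]
      exact (congrArg ((pullbackSymmetry v f).hom ≫ ·) hh).trans (pullbackSymmetry_hom_comp_fst v f))
    have hS := Presheaf.imageSieve_mem Y.smallEtaleTopology (Functor.whiskerLeft (EtCoh.bc f).op η)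
      (U := op V') (P'.map k.op s)
    choose T t y hT hy using exists_local V' hS
    refine GrothendieckTopology.superset_covering _ ?_
      (ofArrows_mem U (fun z => (EtCoh.bc f).obj (T z)) (fun z => (EtCoh.bc f).map (t z) ≫ k) fun x => ?_)
    · rintro _ _ ⟨_, q, _, ⟨z⟩, rfl⟩
      refine Sieve.downward_closed _ ?_ q
      obtain ⟨r, hr⟩ := hT z
      refine ⟨r, ?_⟩
      rw [op_comp, Functor.map_comp_apply]
      exact hr
    · obtain ⟨w, hw⟩ := hs.surj x
      let z₀ : ((EtCoh.bc f).obj V').left := (pullbackSymmetry v f).inv w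
      let z : V'.left := (pullback.fst v f).base z₀
      obtain ⟨c, -, hc⟩ := Scheme.Pullback.exists_preimage_pullback (f := (t z).left)
        (g := (pullback.fst v f : ((EtCoh.bc f).obj V').left ⟶ V'.left)) (y z) z₀ (hy z)
      refine ⟨z, (EtCoh.isPullback_bc_map f (t z)).flip.isoPullback.inv c, ?_⟩
      show (((EtCoh.bc f).map (t z)).left ≫ k.left).base _ = x
      rw [← Scheme.Hom.comp_apply, IsPullback.isoPullback_inv_snd_assoc, Scheme.Hom.comp_apply]
      refine (congrArg k.left.base hc).trans ?_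
      show ((pullbackSymmetry v f).hom ≫ h).base ((pullbackSymmetry v f).inv.base w) = x
      rw [← Scheme.Hom.comp_apply, Iso.inv_hom_id_assoc]
      exact hw

/-- (A) makes the counit on abelian sheaves epimorphic. -/
theorem epi_counit_of_propA (hA : BigSite.PropA f) (F : EtCoh.Ab X) :
    Epi ((EtCoh.pullPushAdj f).counit.app F) := by
  refine (Sheaf.isLocallySurjective_iff_epi' AddCommGrpCat.{u + 1} _).1 ⟨fun {U} s => ?_⟩
  haveI : Etale U.hom := U.prop
  choose V v hv W hcl h hh hu using hA U.left U.hom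
  let V' : U.left → Y.Etale := fun u => MorphismProperty.Over.mk ⊤ (v u) (hv u)
  let E : U.left → X.Etale := fun u => (EtCoh.bc f).obj (V' u)
  let σ : ∀ u, pullback f (v u) ≅ (E u).left := fun u => pullbackSymmetry f (v u)
  let W' : ∀ u, (E u).left.Opens := fun u => (σ u).inv ⁻¹ᵁ W u
  let k : ∀ u, openObj (E u) (W' u) ⟶ U := fun u =>
    MorphismProperty.Over.homMk (((σ u).inv ∣_ W u) ≫ h u) (by
      rw [Category.assoc, hh u, ← Category.assoc, morphismRestrict_ι, Category.assoc]
      exact congrArg ((W' u).ι ≫ ·) (pullbackSymmetry_inv_comp_fst f (v u)))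
  refine GrothendieckTopology.superset_covering _ ?_ (ofArrows_mem U (fun u => openObj (E u) (W' u)) k fun u => ?_)
  · rintro Z₁ g₁ ⟨Z₂, q, g₂, ⟨u⟩, rfl⟩
    refine Sieve.downward_closed _ ?_ q
    let C : (E u).left.Opens := ⟨(W' u : Set ↥(E u).left)ᶜ,
      ((hcl u).preimage (σ u).inv.continuous).isOpen_compl⟩
    let M : ULift.{u} Bool → (E u).left.Opens := fun b => cond b.down (W' u) C
    let t : ∀ b, (F.obj ⋙ forget AddCommGrpCat.{u + 1}).obj (op (openObj (E u) (M b))) := fun b =>
      match b with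
      | ⟨true⟩ => F.obj.map (k u).op s
      | ⟨false⟩ => (0 : F.obj.obj (op (openObj (E u) C)))
    obtain ⟨s', hs'⟩ := exists_amalg (P := F.obj ⋙ forget AddCommGrpCat.{u + 1})
      ((isSheaf_iff_isSheaf_of_type _ _).1 ((Presheaf.isSheaf_iff_isSheaf_forget _ _ (forget _)).1 F.property))
      (E u) M (by
        rintro ⟨⟨⟩⟩ ⟨⟨⟩⟩ hne
        · exact absurd rfl hne
        · exact (Opens.coe_disjoint.1 disjoint_compl_left : Disjoint C (W' u))
        · exact (Opens.coe_disjoint.1 disjoint_compl_right : Disjoint (W' u) C)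
        · exact absurd rfl hne)
      (top_le_iff.1 fun z _ => by
        by_cases hz : z ∈ W' u
        · exact Opens.mem_iSup.2 ⟨⟨true⟩, hz⟩
        · exact Opens.mem_iSup.2 ⟨⟨false⟩, hz⟩) t
    let L := (EtCoh.pull f).obj ((EtCoh.push f).obj F)
    let a : L.obj.obj (op (E u)) :=
      ((EtCoh.pullPushAdj f).unit.app ((EtCoh.push f).obj F)).hom.app (op (V' u)) s'
    have ha : ((EtCoh.pullPushAdj f).counit.app F).hom.app (op (E u)) a = s' :=
      congrArg (fun q : (EtCoh.push f).obj F ⟶ (EtCoh.push f).obj F => q.hom.app (op (V' u)) s')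
        ((EtCoh.pullPushAdj f).right_triangle_components F)
    refine ⟨L.obj.map (openHom (E u) (W' u)).op a, ?_⟩
    refine (NatTrans.naturality_apply ((EtCoh.pullPushAdj f).counit.app F).hom (openHom (E u) (W' u)).op a).trans ?_
    refine (congrArg (F.obj.map (openHom (E u) (W' u)).op) ha).trans ?_
    exact hs' ⟨true⟩
  · obtain ⟨w, hw⟩ := hu u
    obtain ⟨z, hz⟩ := (inferInstance : Surjective ((σ u).inv ∣_ W u)).surj w
    refine ⟨u, z, ?_⟩
    show (((σ u).inv ∣_ W u) ≫ h u).base z = u
    rw [Scheme.Hom.comp_apply, hz, hw]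

/-- (C) with closed base changes gives almost cocontinuity. -/
theorem isAlmostCocontinuous_of_propC
    (hC : ∀ (V : Scheme.{u}) (v : V ⟶ Y) [Etale v], BigSite.PropC (pullback.snd f v))
    (hcl : ∀ (V : Scheme.{u}) (v : V ⟶ Y) [Etale v], IsClosedMap (pullback.snd f v).base) :
    BigSite.IsAlmostCocontinuous (EtCoh.bc f) Y.smallEtaleTopology X.smallEtaleTopology := by
  intro W R hR
  haveI : Etale W.hom := W.prop
  let E : X.Etale := (EtCoh.bc f).obj W
  let σ : pullback f W.hom ≅ E.left := pullbackSymmetry f W.hom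
  let p := pullback.snd f W.hom
  have key : ∀ x : W.left, ∃ (W' : Y.Etale) (φ : W' ⟶ W), x ∈ Set.range φ.left.base ∧
      ((⊥ : Sieve ((EtCoh.bc f).obj W')) ∈ X.smallEtaleTopology _ ∨ R ((EtCoh.bc f).map φ)) := fun x => by
    by_cases hx : x ∈ Set.range p.base
    · obtain ⟨z, rfl⟩ := hx
      obtain ⟨T, t, y, hT, hy⟩ := exists_local E hR (σ.hom z)
      haveI : Etale t.left := Groth.Agent.EtShLib.etale_left t
      obtain ⟨V, v, hv, h, hh, hs⟩ := hC W.left W.hom T.left (t.left ≫ σ.inv)
      let W' : Y.Etale := MorphismProperty.Over.mk ⊤ (v ≫ W.hom) (by infer_instance)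
      let φ : W' ⟶ W := MorphismProperty.Over.homMk v rfl
      let l : ((EtCoh.bc f).obj W').left ⟶ pullback p v :=
        pullback.lift (((EtCoh.bc f).map φ).left ≫ σ.inv) (pullback.fst (v ≫ W.hom) f) (by
          rw [Category.assoc]
          refine (congrArg (((EtCoh.bc f).map φ).left ≫ ·) (pullbackSymmetry_inv_comp_snd f W.hom)).trans ?_
          exact (EtCoh.isPullback_bc_map f φ).w)
      have hl : (l ≫ h) ≫ t.left = ((EtCoh.bc f).map φ).left := by
        rw [← cancel_mono σ.inv, Category.assoc, Category.assoc, hh, pullback.lift_fst]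
      let k : (EtCoh.bc f).obj W' ⟶ T := MorphismProperty.Over.homMk (l ≫ h) (by
        rw [← MorphismProperty.Over.w t, ← Category.assoc, hl, MorphismProperty.Over.w ((EtCoh.bc f).map φ)])
      refine ⟨W', φ, ?_, Or.inr ?_⟩
      · obtain ⟨w, hw⟩ := hs.surj y
        refine ⟨(pullback.snd p v).base w, ?_⟩
        show (pullback.snd p v ≫ v).base w = p.base z
        rw [← pullback.condition, Scheme.Hom.comp_apply, ← hh, Scheme.Hom.comp_apply, hw, Scheme.Hom.comp_apply,
          hy, ← Scheme.Hom.comp_apply σ.hom, Iso.hom_inv_id]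
        rfl
      · have hkt : k ≫ t = (EtCoh.bc f).map φ := MorphismProperty.Over.Hom.ext hl
        rw [← hkt]
        exact R.downward_closed hT k
    · let V₀ : W.left.Opens := ⟨(Set.range p.base)ᶜ, (hcl W.left W.hom).isClosed_range.isOpen_compl⟩
      refine ⟨openObj W V₀, openHom W V₀, ⟨⟨x, hx⟩, rfl⟩, Or.inl ?_⟩
      haveI : IsEmpty ((EtCoh.bc f).obj (openObj W V₀)).left := ⟨fun z => by
        refine ((pullback.fst (V₀.ι ≫ W.hom) f).base z).2 ⟨σ.inv (((EtCoh.bc f).map (openHom W V₀)).left.base z), ?_⟩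
        show (σ.inv ≫ p).base _ = _
        rw [pullbackSymmetry_inv_comp_snd]
        exact congrArg (fun q : ((EtCoh.bc f).obj (openObj W V₀)).left ⟶ W.left => q.base z)
          (EtCoh.isPullback_bc_map f (openHom W V₀)).w⟩
      exact bot_mem _
  choose W' φ hx hor using key
  refine ⟨Sieve.ofArrows W' φ, ofArrows_mem W W' φ fun x => ⟨x, hx x⟩, ?_⟩
  rintro V g ⟨_, q, _, ⟨x⟩, rfl⟩
  rcases hor x with hbot | hR'
  · refine Or.inl (GrothendieckTopology.superset_covering _ ?_
      (X.smallEtaleTopology.pullback_stable ((EtCoh.bc f).map q) hbot))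
    intro Z a ha
    exact ha
  · rw [Functor.map_comp]
    exact Or.inr (R.downward_closed hR' _)

end EtSplitLib
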