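import Groth.Agent.WeightLib.Local
import Groth.Agent.WeightLib.EtaleQF
import Groth.Agent.FFDescLib.EtaleGraph
import Mathlib.AlgebraicGeometry.Morphisms.UniversallyInjective
import Mathlib.AlgebraicGeometry.Morphisms.Finite

/-!
# Sections of étale schemes over quasi-finite schemes after étale localisation of the base
-/

set_option autoImplicit false
set_option linter.style.haveILetI false
set_option backward.isDefEq.respectTransparency false
universe u

open CategoryTheory CategoryTheory.Limits AlgebraicGeometry WeightLib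

namespace EtSplitLib

/-- A finite étale morphism has a section over a clopen on which its fibres have a single geometric point. -/
theorem exists_clopen_section {P T : Scheme.{u}} (e : P ⟶ T) [Etale e] [IsFinite e] :
    ∃ R : T.Opens, IsClosed (R : Set T) ∧ IsIso (e ∣_ R) ∧
      ∀ (Ω : Type u) [Field Ω] [IsAlgClosed Ω] (t : Spec (.of Ω) ⟶ T),
        (Nonempty (GPts e t) ∧ Subsingleton (GPts e t)) → img t ∈ R := by
  let Δ := pullback.diagonal e
  let C : Set T := (pullback.fst e e ≫ e).base '' (Set.range Δ.base)ᶜ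
  haveI : IsFinite (pullback.fst e e) := MorphismProperty.pullback_fst (P := @IsFinite) _ _ ‹_›
  haveI : Etale (pullback.fst e e) := MorphismProperty.pullback_fst (P := @Etale) _ _ ‹_›
  haveI : IsOpenImmersion Δ := inferInstance
  haveI : IsClosedImmersion Δ := inferInstance
  have hC₁ : IsClosed C := (pullback.fst e e ≫ e).isClosedMap _ Δ.isOpenEmbedding.isOpen_range.isClosed_compl
  have hC₂ : IsOpen C := (pullback.fst e e ≫ e).isOpenMap _ Δ.isClosedEmbedding.isClosed_range.isOpen_compl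
  let R : T.Opens := ⟨Set.range e.base ∩ Cᶜ, e.isOpenMap.isOpen_range.inter hC₁.isOpen_compl⟩
  refine ⟨R, e.isClosedMap.isClosed_range.inter hC₂.isClosed_compl, ?_, fun Ω _ _ t ⟨h₁, h₂⟩ => ⟨?_, ?_⟩⟩
  · haveI : Etale (e ∣_ R) := IsZariskiLocalAtTarget.restrict ‹_› R
    haveI : Surjective (e ∣_ R) := by
      refine ⟨fun ⟨x, ⟨a, ha⟩, hx⟩ => ⟨⟨a, show e.base a ∈ R from ha ▸ ⟨⟨a, ha⟩, hx⟩⟩, Subtype.ext ?_⟩⟩
      rw [morphismRestrict_base]
      exact ha
    haveI : UniversallyInjective (e ∣_ R) := by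
      refine ((tfae_universallyInjective (e ∣_ R)).out 0 1 :).2 fun K _ a b hab => ?_
      have hab' : (a ≫ (e ⁻¹ᵁ R).ι) ≫ e = (b ≫ (e ⁻¹ᵁ R).ι) ≫ e := by
        rw [Category.assoc, Category.assoc, ← morphismRestrict_ι, ← Category.assoc, ← Category.assoc]
        exact congrArg (· ≫ R.ι) hab
      let c := pullback.lift _ _ hab'
      have hc : Set.range c.base ⊆ Set.range Δ.base := by
        rintro _ ⟨z, rfl⟩
        by_contra hz
        have hR : (c ≫ pullback.fst e e ≫ e).base z ∈ R := by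
          rw [← Category.assoc, pullback.lift_fst]
          exact ((a.base z : _) : (e ⁻¹ᵁ R : Scheme.{u})).2
        exact hR.2 ⟨_, hz, rfl⟩
      have hfac := IsOpenImmersion.lift_fac Δ c hc
      have e1 : IsOpenImmersion.lift Δ c hc = a ≫ (e ⁻¹ᵁ R).ι := by
        rw [← Category.comp_id (IsOpenImmersion.lift Δ c hc), ← pullback.diagonal_fst e, ← Category.assoc, hfac,
          pullback.lift_fst]
      have e2 : IsOpenImmersion.lift Δ c hc = b ≫ (e ⁻¹ᵁ R).ι := by
        rw [← Category.comp_id (IsOpenImmersion.lift Δ c hc), ← pullback.diagonal_snd e, ← Category.assoc, hfac,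
          pullback.lift_snd]
      exact (cancel_mono (e ⁻¹ᵁ R).ι).1 (e1.symm.trans e2)
    exact FFDescLib.isIso_of_etale_univInjective_surjective _
  · obtain ⟨p⟩ := h₁
    exact ⟨img p.1, img_mem_fibre e p⟩
  · rintro ⟨z, hz, hzt⟩
    obtain ⟨⟨c, hc⟩, hcz⟩ := exists_gpt (pullback.fst e e ≫ e) z t hzt
    refine hz ?_
    have h12 : c ≫ pullback.fst e e = c ≫ pullback.snd e e :=
      congrArg Subtype.val (h₂.elim ⟨_, by rw [Category.assoc, hc]⟩ ⟨_, by rw [Category.assoc, ← pullback.condition, hc]⟩)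
    have : c = (c ≫ pullback.fst e e) ≫ Δ := pullback.hom_ext (by simp [Δ]) (by simp [Δ, h12])
    rw [← hcz]
    show img c ∈ _
    rw [this, img_comp]
    exact ⟨_, rfl⟩

variable {W U V : Scheme.{u}} (q : W ⟶ V) (g : U ⟶ W) [IsSeparated q] [LocallyQuasiFinite q]
  [LocallyOfFiniteType q] [Etale g]

/-- After an étale localisation of the base, prescribed geometric points lift to sections over disjoint
clopen subschemes. -/
theorem exists_split_sections {Ω : Type u} [Field Ω] [IsAlgClosed Ω] (η : Spec (.of Ω) ⟶ V)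
    {ι : Type*} [Finite ι] (r : ι → GPts (g ≫ q) η) (hr : ∀ i j, (r i).1 ≫ g = (r j).1 ≫ g → i = j) :
    ∃ (V' : Scheme.{u}) (v : V' ⟶ V) (_ : Etale v) (η' : GPts v η) (R : ι → (pullback q v).Opens)
      (s : ∀ i, (R i : Scheme.{u}) ⟶ U) (p : ∀ i, Spec (.of Ω) ⟶ (R i : Scheme.{u})),
      (∀ i, IsClosed (R i : Set ↥(pullback q v))) ∧ (∀ i j, i ≠ j → Disjoint (R i) (R j)) ∧
      (∀ i, s i ≫ g = (R i).ι ≫ pullback.fst q v) ∧
      (∀ i, p i ≫ (R i).ι ≫ pullback.snd q v = η'.1 ∧ p i ≫ s i = (r i).1) := by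
  haveI : LocallyQuasiFinite g := locallyQuasiFinite_of_etale g
  obtain ⟨V', v, hv, v', hv', n, P, hfin, hsingle, -, hcov⟩ :=
    exists_split (g ≫ q) (img η) (Set.range fun i => img (r i).1) (Set.finite_range _)
  haveI := hv
  haveI : LocallyQuasiFinite v := locallyQuasiFinite_of_etale v
  obtain ⟨η', hη'⟩ := exists_gpt v v' η hv'
  let r' : ∀ i, Spec (.of Ω) ⟶ pullback (g ≫ q) v := fun i =>
    pullback.lift (r i).1 η'.1 ((r i).2.trans η'.2.symm)
  have hk : ∀ i, ∃ k, img (r' i) ∈ P k := fun i => hcov _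
    (by rw [← img_comp, pullback.lift_snd, hη'])
    ⟨i, by rw [← img_comp, pullback.lift_fst]⟩
  choose k hk using hk
  have hlift : ∀ i, ∃ a : Spec (.of Ω) ⟶ (P (k i) : Scheme.{u}), a ≫ (P (k i)).ι = r' i := fun i => by
    refine ⟨IsOpenImmersion.lift (P (k i)).ι (r' i) ?_, IsOpenImmersion.lift_fac _ _ _⟩
    rintro _ ⟨z, rfl⟩
    rw [Scheme.Opens.range_ι, Subsingleton.elim z (IsLocalRing.closedPoint Ω)]
    exact hk i
  choose a ha using hlift
  let m : pullback (g ≫ q) v ⟶ pullback q v :=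
    pullback.map _ _ _ _ g (𝟙 V') (𝟙 V) (by simp) (by simp)
  have hm₁ : m ≫ pullback.fst q v = pullback.fst (g ≫ q) v ≫ g := pullback.lift_fst _ _ _
  have hm₂ : m ≫ pullback.snd q v = pullback.snd (g ≫ q) v := (pullback.lift_snd _ _ _).trans (Category.comp_id _)
  have hpb : IsPullback m (pullback.fst (g ≫ q) v) (pullback.fst q v) g := by
    refine (IsPullback.of_bot ?_ hm₁.symm (IsPullback.of_hasPullback q v)).flip
    rw [hm₂]
    exact IsPullback.of_hasPullback (g ≫ q) v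
  haveI : Etale m := MorphismProperty.of_isPullback (P := @Etale) hpb.flip ‹_›
  haveI : IsSeparated (pullback.snd q v) := MorphismProperty.pullback_snd (P := @IsSeparated) _ _ ‹_›
  let e : ∀ i, (P (k i) : Scheme.{u}) ⟶ pullback q v := fun i => (P (k i)).ι ≫ m
  haveI : ∀ i, Etale (e i) := fun i => inferInstance
  haveI : ∀ i, IsFinite (e i) := fun i => by
    haveI : IsFinite (e i ≫ pullback.snd q v) := by rw [Category.assoc, hm₂]; exact hfin (k i)
    exact IsFinite.of_comp (e i) (pullback.snd q v)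
  let x : ι → (Spec (.of Ω) ⟶ pullback q v) := fun i => a i ≫ e i
  have hx₂ : ∀ i, x i ≫ pullback.snd q v = η'.1 := fun i => by
    rw [Category.assoc, Category.assoc, hm₂, reassoc_of% (ha i), pullback.lift_snd]
  have hx₁ : ∀ i, x i ≫ pullback.fst q v = (r i).1 ≫ g := fun i => by
    rw [Category.assoc, Category.assoc, hm₁, reassoc_of% (ha i), pullback.lift_fst_assoc]
  have huniq : ∀ i j (c : GPts (e j) (x i)), i = j ∧ c.1 = a j := by
    intro i j c
    have hc : c.1 = a j := congrArg Subtype.val ((hsingle (k j) Ω η'.1 hη').elim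
      ⟨c.1, by rw [← hm₂, ← Category.assoc (P (k j)).ι, ← Category.assoc c.1, c.2, hx₂]⟩
      ⟨a j, by rw [reassoc_of% (ha j), pullback.lift_snd]⟩)
    refine ⟨hr i j ?_, hc⟩
    rw [← hx₁, ← hx₁, ← c.2, hc]
  choose R hR₁ hR₂ hR₃ using fun i => exists_clopen_section (e i)
  have hxR : ∀ i, img (x i) ∈ R i := fun i => hR₃ i Ω (x i)
    ⟨⟨⟨a i, rfl⟩⟩, ⟨fun c d => Subtype.ext ((huniq i i c).2.trans (huniq i i d).2.symm)⟩⟩
  have hxe : ∀ i j, img (x i) ∈ Set.range (e j).base → i = j := by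
    rintro i j ⟨z, hz⟩
    haveI : LocallyQuasiFinite (e j) := locallyQuasiFinite_of_etale (e j)
    obtain ⟨c, -⟩ := exists_gpt (e j) z (x i) hz
    exact (huniq i j c).1
  let R' : ι → (pullback q v).Opens := fun i =>
    ⟨(R i : Set ↥(pullback q v)) ∩ ⋂ j : {j // j ≠ i}, (Set.range (e j.1).base)ᶜ,
      (R i).isOpen.inter (isOpen_iInter_of_finite fun j => (e j.1).isClosedMap.isClosed_range.isOpen_compl)⟩
  have hle : ∀ i, R' i ≤ R i := fun i z hz => hz.1
  have hxR' : ∀ i, img (x i) ∈ R' i := fun i =>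
    ⟨hxR i, Set.mem_iInter.2 fun j hj => j.2 (hxe i j.1 hj).symm⟩
  haveI : ∀ i, IsIso (e i ∣_ R i) := hR₂
  let σ : ∀ i, (R i : Scheme.{u}) ⟶ pullback (g ≫ q) v := fun i =>
    inv (e i ∣_ R i) ≫ ((e i) ⁻¹ᵁ R i).ι ≫ (P (k i)).ι
  have hσ : ∀ i, σ i ≫ m = (R i).ι := fun i => by
    rw [Category.assoc, Category.assoc, IsIso.inv_comp_eq, morphismRestrict_ι]
  have hp : ∀ i, Set.range (x i).base ⊆ Set.range (R' i).ι.base := fun i => by
    rintro _ ⟨z, rfl⟩
    rw [Scheme.Opens.range_ι, Subsingleton.elim z (IsLocalRing.closedPoint Ω)]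
    exact hxR' i
  refine ⟨V', v, hv, η', R', fun i => (pullback q v).homOfLE (hle i) ≫ σ i ≫ pullback.fst (g ≫ q) v,
    fun i => IsOpenImmersion.lift (R' i).ι (x i) (hp i), fun i => ?_, fun i j hij => ?_, fun i => ?_,
    fun i => ⟨?_, ?_⟩⟩
  · exact (hR₁ i).inter (isClosed_iInter fun j => (e j.1).isOpenMap.isOpen_range.isClosed_compl)
  · rw [← TopologicalSpace.Opens.coe_disjoint, Set.disjoint_left]
    intro z hzi hzj
    refine Set.mem_iInter.1 hzi.2 ⟨j, hij.symm⟩ ?_
    obtain ⟨w, hw⟩ := (inferInstance : Surjective (e j ∣_ R j)).surj ⟨z, hzj.1⟩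
    exact ⟨w.1, by simpa using congrArg Subtype.val hw⟩
  · rw [Category.assoc, Category.assoc, ← hm₁, reassoc_of% (hσ i), Scheme.homOfLE_ι_assoc]
  · rw [IsOpenImmersion.lift_fac_assoc, hx₂]
  · let c := IsOpenImmersion.lift (R' i).ι (x i) (hp i) ≫ (pullback q v).homOfLE (hle i) ≫ inv (e i ∣_ R i) ≫
      ((e i) ⁻¹ᵁ R i).ι
    have hc : c ≫ e i = x i := by
      simp only [c, Category.assoc]
      rw [← morphismRestrict_ι, IsIso.inv_hom_id_assoc, Scheme.homOfLE_ι, IsOpenImmersion.lift_fac]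
    have hca : c = a i := (huniq i i ⟨c, hc⟩).2
    calc _ = c ≫ (P (k i)).ι ≫ pullback.fst (g ≫ q) v := by simp [c, σ]
      _ = _ := by rw [hca, reassoc_of% (ha i), pullback.lift_fst]

omit [LocallyQuasiFinite q] [LocallyOfFiniteType q] [IsSeparated q] in
/-- Shrink the base so that given opens covering a fibre of a closed map cover everything. -/
theorem exists_nhd_cover {V' : Scheme.{u}} (π : W ⟶ V') [UniversallyClosed π] {ι : Type*} (R : ι → W.Opens)
    (v' : V') (h : ∀ z, π.base z = v' → ∃ i, z ∈ R i) :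
    ∃ O : V'.Opens, v' ∈ O ∧ π ⁻¹ᵁ O ≤ ⨆ i, R i := by
  refine ⟨⟨(π.base '' (↑(⨆ i, R i))ᶜ)ᶜ, (π.isClosedMap _ (⨆ i, R i).isOpen.isClosed_compl).isOpen_compl⟩,
    ?_, fun z hz => ?_⟩
  · rintro ⟨z, hz, hzv⟩
    obtain ⟨i, hi⟩ := h z hzv
    exact hz (TopologicalSpace.Opens.mem_iSup.2 ⟨i, hi⟩)
  · by_contra hz'
    exact hz ⟨z, hz', rfl⟩

end EtSplitLib
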