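import Groth.Agent.EtSplitLib.Main
import Mathlib.RingTheory.Smooth.NoetherianDescent
import Mathlib.AlgebraicGeometry.Morphisms.Integral
import Mathlib.AlgebraicGeometry.Limits
import Groth.Prelude.Def_BigSite

/-!
# Integral morphisms after étale localisation of the base
-/

set_option autoImplicit false
set_option linter.style.haveILetI false
set_option backward.isDefEq.respectTransparency false
universe u

open CategoryTheory CategoryTheory.Limits AlgebraicGeometry WeightLib TensorProduct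

namespace EtSplitLib

/-- A finite model of an étale affine scheme over an integral affine scheme. -/
structure Model {U W V : Scheme.{u}} (g : U ⟶ W) (π : W ⟶ V) where
  W₁ : Scheme.{u}
  U₁ : Scheme.{u}
  q : W₁ ⟶ V
  b : W ⟶ W₁
  g₁ : U₁ ⟶ W₁
  φ : U ⟶ U₁
  fin : IsFinite q
  et : Etale g₁
  surj : Surjective b
  fac : b ≫ q = π
  pb : IsPullback φ g g₁ b

theorem exists_model {U W V : Scheme.{u}} [IsAffine U] [IsAffine V] (g : U ⟶ W) (π : W ⟶ V)
    [IsIntegralHom π] [Etale g] : Nonempty (Model g π) := by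
  haveI : IsAffine W := isAffine_of_isAffineHom π
  let A := Γ(V, ⊤)
  let B := Γ(W, ⊤)
  let C := Γ(U, ⊤)
  letI : Algebra A B := π.appTop.hom.toAlgebra
  letI : Algebra B C := g.appTop.hom.toAlgebra
  haveI : Algebra.IsIntegral A B := ⟨π.isIntegral_app ⊤ (isAffineOpen_top V)⟩
  haveI : Algebra.Etale B C := RingHom.etale_algebraMap.1 (HasRingHomProperty.appTop (P := @Etale) g ‹_›)
  obtain ⟨B₁, C₁, _, _, hfg, _, ⟨e⟩⟩ := Algebra.Etale.exists_subalgebra_fg (R := A) (A := B) (B := C)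
  haveI : Algebra.FiniteType A B₁ := B₁.fg_iff_finiteType.1 hfg
  haveI : Algebra.IsIntegral A B₁ := Algebra.IsIntegral.of_injective B₁.val Subtype.val_injective
  haveI : Module.Finite A B₁ := Algebra.IsIntegral.finite
  let β : CommRingCat.of ↥B₁ ⟶ B := CommRingCat.ofHom (algebraMap ↥B₁ B)
  let γ : CommRingCat.of ↥B₁ ⟶ CommRingCat.of C₁ := CommRingCat.ofHom (algebraMap ↥B₁ C₁)
  let ε : CommRingCat.of C₁ ⟶ C := CommRingCat.ofHom
    (e.symm.toRingEquiv.toRingHom.comp (Algebra.TensorProduct.includeRight : C₁ →ₐ[↥B₁] B ⊗[↥B₁] C₁).toRingHom)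
  have hpo : IsPushout β γ g.appTop ε :=
    (CommRingCat.isPushout_tensorProduct ↥B₁ B C₁).of_iso (Iso.refl _) (Iso.refl _) (Iso.refl _)
      e.symm.toRingEquiv.toCommRingCatIso (by simp [β]) (by simp [γ])
      (by ext x; exact e.symm.commutes x) (by ext x; rfl)
  haveI : Algebra.IsIntegral ↥B₁ B := Algebra.IsIntegral.tower_top A
  refine ⟨{
    W₁ := Spec (CommRingCat.of ↥B₁)
    U₁ := Spec (CommRingCat.of C₁)
    q := Spec.map (CommRingCat.ofHom (algebraMap A ↥B₁)) ≫ V.isoSpec.inv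
    b := W.isoSpec.hom ≫ Spec.map β
    g₁ := Spec.map γ
    φ := U.isoSpec.hom ≫ Spec.map ε
    fin := ?_
    et := HasRingHomProperty.Spec_iff.2 (RingHom.etale_algebraMap.2 ‹_›)
    surj := ?_
    fac := ?_
    pb := ?_ }⟩
  · haveI : IsFinite (Spec.map (CommRingCat.ofHom (algebraMap A ↥B₁))) :=
      (IsFinite.SpecMap_iff _).2 (RingHom.finite_algebraMap.2 ‹_›)
    infer_instance
  · haveI : Surjective (Spec.map β) := by
      refine ⟨fun Q => ?_⟩
      obtain ⟨P, -, hP, hPQ⟩ := Ideal.exists_ideal_over_prime_of_isIntegral Q.asIdeal (⊥ : Ideal B)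
        (by
          rw [← RingHom.ker_eq_comap_bot,
            (RingHom.injective_iff_ker_eq_bot (algebraMap ↥B₁ B)).1 Subtype.val_injective]
          exact bot_le)
      exact ⟨⟨P, hP⟩, PrimeSpectrum.ext hPQ⟩
    infer_instance
  · rw [Category.assoc, ← Spec.map_comp_assoc,
      show CommRingCat.ofHom (algebraMap A ↥B₁) ≫ β = π.appTop from rfl,
      Scheme.isoSpec_hom_naturality_assoc, Iso.hom_inv_id, Category.comp_id]
  · exact (isPullback_SpecMap_of_isPushout _ _ _ _ hpo).flip.of_iso U.isoSpec.symm (Iso.refl _) W.isoSpec.symm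
      (Iso.refl _) (by simp) (by simp [Scheme.isoSpec_inv_naturality]) (by simp) (by simp)

variable {U W V : Scheme.{u}} {g : U ⟶ W} {π : W ⟶ V}

/-- Sections after étale localisation, from a finite model. -/
theorem Model.split (M : Model g π) {Ω : Type u} [Field Ω] [IsAlgClosed Ω] (η : Spec (.of Ω) ⟶ V)
    {ι : Type*} [Finite ι] (r : ι → GPts (M.g₁ ≫ M.q) η) (hr : ∀ i j, (r i).1 ≫ M.g₁ = (r j).1 ≫ M.g₁ → i = j) :
    ∃ (V' : Scheme.{u}) (v : V' ⟶ V) (_ : Etale v) (η' : GPts v η) (R : ι → (pullback π v).Opens)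
      (s : ∀ i, (R i : Scheme.{u}) ⟶ U),
      (∀ i, IsClosed (R i : Set ↥(pullback π v))) ∧ (∀ i j, i ≠ j → Disjoint (R i) (R j)) ∧
      (∀ i, s i ≫ g = (R i).ι ≫ pullback.fst π v) ∧
      (∀ i (u : GPts (g ≫ π) η), u.1 ≫ M.φ = (r i).1 → ∃ p : Spec (.of Ω) ⟶ (R i : Scheme.{u}),
        p ≫ s i = u.1 ∧ p ≫ (R i).ι ≫ pullback.snd π v = η'.1) ∧
      ((∀ t : GPts M.q η, ∃ i, (r i).1 ≫ M.g₁ = t.1) →
        ∀ z, pullback.snd π v z = img η'.1 → ∃ i, z ∈ R i) := by
  obtain ⟨W₁, U₁, q, b, g₁, φ, fin, et, surj, fac, pb⟩ := M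
  haveI := fin; haveI := et
  obtain ⟨V', v, hv, η', R₁, s₁, p₁, hcl, hdisj, hs, hp⟩ := exists_split_sections q g₁ η r hr
  let m : pullback π v ⟶ pullback q v := pullback.map _ _ _ _ b (𝟙 V') (𝟙 V) (by simp [fac]) (by simp)
  have hm₁ : m ≫ pullback.fst q v = pullback.fst π v ≫ b := pullback.lift_fst _ _ _
  have hm₂ : m ≫ pullback.snd q v = pullback.snd π v := (pullback.lift_snd _ _ _).trans (Category.comp_id _)
  have hw : ∀ i, ((m ∣_ R₁ i) ≫ s₁ i) ≫ g₁ = ((m ⁻¹ᵁ R₁ i).ι ≫ pullback.fst π v) ≫ b := fun i => by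
    rw [Category.assoc, hs, ← Category.assoc, morphismRestrict_ι, Category.assoc, hm₁, Category.assoc]
  refine ⟨V', v, hv, η', fun i => m ⁻¹ᵁ R₁ i,
    fun i => pb.lift ((m ∣_ R₁ i) ≫ s₁ i) ((m ⁻¹ᵁ R₁ i).ι ≫ pullback.fst π v) (hw i),
    fun i => (hcl i).preimage m.continuous, fun i j hij => ?_, fun i => pb.lift_snd _ _ _,
    fun i u hu => ?_, fun hall z hz => ?_⟩
  · rw [← TopologicalSpace.Opens.coe_disjoint]
    exact (TopologicalSpace.Opens.coe_disjoint.2 (hdisj i j hij)).preimage _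
  · let p : Spec (.of Ω) ⟶ pullback π v :=
      pullback.lift (u.1 ≫ g) η'.1 (by rw [Category.assoc, u.2, η'.2])
    have hpm : p ≫ m = p₁ i ≫ (R₁ i).ι := pullback.hom_ext
      (by
        rw [Category.assoc, Category.assoc, hm₁, ← hs, ← Category.assoc (p₁ i), (hp i).2, pullback.lift_fst_assoc,
          ← hu]
        simp [pb.w])
      (by rw [Category.assoc, Category.assoc, hm₂, (hp i).1, pullback.lift_snd])
    have hrange : Set.range p.base ⊆ Set.range (m ⁻¹ᵁ R₁ i).ι.base := by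
      rintro _ ⟨z, rfl⟩
      rw [Scheme.Opens.range_ι]
      show (p ≫ m).base z ∈ R₁ i
      rw [hpm]
      exact ((p₁ i).base z).2
    refine ⟨IsOpenImmersion.lift (m ⁻¹ᵁ R₁ i).ι p hrange, pb.hom_ext ?_ ?_,
      by rw [IsOpenImmersion.lift_fac_assoc, pullback.lift_snd]⟩
    · rw [Category.assoc, pb.lift_fst, hu, ← (hp i).2, ← Category.assoc]
      congr 1
      rw [← cancel_mono (R₁ i).ι, Category.assoc, morphismRestrict_ι, IsOpenImmersion.lift_fac_assoc, hpm]
    · rw [Category.assoc, pb.lift_snd, IsOpenImmersion.lift_fac_assoc, pullback.lift_fst]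
  · haveI : LocallyQuasiFinite (pullback.snd q v) := inferInstance
    obtain ⟨⟨c, hc⟩, hcz⟩ := exists_gpt (pullback.snd q v) (m z) η'.1 (by
      rw [← Scheme.Hom.comp_apply, hm₂, hz])
    obtain ⟨i, hi⟩ := hall ⟨c ≫ pullback.fst q v, by rw [Category.assoc, pullback.condition, reassoc_of% hc, η'.2]⟩
    have : c = p₁ i ≫ (R₁ i).ι := pullback.hom_ext
      (by rw [Category.assoc, ← hs, ← Category.assoc, (hp i).2]; exact hi.symm)
      (by rw [Category.assoc, (hp i).1]; exact hc)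
    refine ⟨i, ?_⟩
    show m z ∈ R₁ i
    rw [← hcz]
    show img c ∈ R₁ i
    rw [this, img_comp]
    exact (img (p₁ i)).2

variable [IsAffine U] [IsAffine V] [IsIntegralHom π] [Etale g]

/-- Some clopen of an étale localisation maps to `U` hitting a given point. -/
theorem exists_clopen_hom (u : U) :
    ∃ (V' : Scheme.{u}) (v : V' ⟶ V) (_ : Etale v) (R : (pullback π v).Opens) (s : (R : Scheme.{u}) ⟶ U),
      IsClosed (R : Set ↥(pullback π v)) ∧ s ≫ g = R.ι ≫ pullback.fst π v ∧ u ∈ Set.range s.base := by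
  obtain ⟨M⟩ := exists_model g π
  let r := gpt u
  let η := r ≫ g ≫ π
  let r₁ : GPts (M.g₁ ≫ M.q) η := ⟨r ≫ M.φ, by rw [Category.assoc, reassoc_of% M.pb.w, M.fac]⟩
  obtain ⟨V', v, hv, η', R, s, hcl, -, hs, hlift, -⟩ := M.split η (fun _ : Unit => r₁) fun _ _ _ => rfl
  obtain ⟨p, hp, -⟩ := hlift () ⟨r, rfl⟩ rfl
  refine ⟨V', v, hv, R (), s (), hcl (), hs (), img p, ?_⟩
  exact (congrArg img hp).trans (img_gpt u)

/-- An étale localisation of the base splits an étale covering of an integral scheme. A prescribed geometric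
point may be required to be hit. -/
theorem exists_split_cover [Surjective g] {Ω : Type u} [Field Ω] [IsAlgClosed Ω] (η : Spec (.of Ω) ⟶ V)
    (o : Option (GPts (g ≫ π) η)) :
    ∃ (V' : Scheme.{u}) (v : V' ⟶ V) (_ : Etale v) (ι : Type u) (R : ι → (pullback π v).Opens)
      (s : ∀ i, (R i : Scheme.{u}) ⟶ U),
      img η ∈ Set.range v.base ∧ (∀ i j, i ≠ j → Disjoint (R i) (R j)) ∧ (⨆ i, R i) = ⊤ ∧
      (∀ i, s i ≫ g = (R i).ι ≫ pullback.fst π v) ∧ ∀ u ∈ o, ∃ i, img u.1 ∈ Set.range (s i).base := by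
  obtain ⟨M⟩ := exists_model g π
  haveI := M.fin; haveI := M.et; haveI := M.surj
  haveI : Surjective (M.φ ≫ M.g₁) := by rw [M.pb.w]; infer_instance
  haveI : Surjective M.g₁ := Surjective.of_comp M.φ M.g₁
  haveI : LocallyQuasiFinite M.g₁ := locallyQuasiFinite_of_etale M.g₁
  haveI : Finite (GPts M.q η) := finite_gpts M.q η (M.q.finite_preimage_singleton _)
  have hch : ∀ t : GPts M.q η, ∃ c : GPts M.g₁ t.1, ∀ u ∈ o, u.1 ≫ g ≫ M.b = t.1 → c.1 = u.1 ≫ M.φ := by
    intro t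
    obtain ⟨z, hz⟩ := M.g₁.surjective (img t.1)
    obtain ⟨c₀, -⟩ := exists_gpt M.g₁ z t.1 hz
    rcases o with _ | u
    · exact ⟨c₀, by simp⟩
    · by_cases h : u.1 ≫ g ≫ M.b = t.1
      · refine ⟨⟨u.1 ≫ M.φ, by rw [Category.assoc, M.pb.w, h]⟩, fun u' hu' _ => ?_⟩
        obtain rfl : u = u' := Option.mem_some_iff.1 hu'
        rfl
      · exact ⟨c₀, fun u' hu' h' => absurd (Option.mem_some_iff.1 hu' ▸ h') h⟩
  choose c hc using hch
  obtain ⟨V', v, hv, η', R, s, -, hdisj, hs, hp, hcov⟩ := M.split η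
    (fun t : GPts M.q η => ⟨(c t).1, by rw [← Category.assoc, (c t).2]; exact t.2⟩)
    (fun i j h => Subtype.ext (by simpa [(c i).2, (c j).2] using h))
  have hcov' := hcov fun t => ⟨t, (c t).2⟩
  obtain ⟨O, hO, hle⟩ := exists_nhd_cover (pullback.snd π v) R (img η'.1) hcov'
  let v₁ : (O : Scheme.{u}) ⟶ V := O.ι ≫ v
  let k : pullback π v₁ ⟶ pullback π v := pullback.map _ _ _ _ (𝟙 W) O.ι (𝟙 V) (by simp) (by simp [v₁])
  have hk₁ : k ≫ pullback.fst π v = pullback.fst π v₁ := (pullback.lift_fst _ _ _).trans (Category.comp_id _)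
  refine ⟨O, v₁, inferInstance, GPts M.q η, fun i => k ⁻¹ᵁ R i, fun i => (k ∣_ R i) ≫ s i,
    ⟨⟨img η'.1, hO⟩, ?_⟩, fun i j hij => ?_, ?_, fun i => ?_, fun u hu => ?_⟩
  · show v.base (img η'.1) = img η
    rw [← img_comp, η'.2]
  · rw [← TopologicalSpace.Opens.coe_disjoint]
    exact (TopologicalSpace.Opens.coe_disjoint.2 (hdisj i j hij)).preimage _
  · refine top_le_iff.1 fun z _ => ?_
    rw [← Scheme.Hom.preimage_iSup]
    refine hle ?_
    show (k ≫ pullback.snd π v).base z ∈ O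
    rw [pullback.lift_snd]
    exact ((pullback.snd π v₁).base z).2
  · rw [Category.assoc, hs, ← Category.assoc, morphismRestrict_ι, Category.assoc, hk₁]
  · let t : GPts M.q η := ⟨u.1 ≫ g ≫ M.b, by rw [Category.assoc, Category.assoc, M.fac]; exact u.2⟩
    obtain ⟨p₀, hp₀, hp₀'⟩ := hp t u (hc t u hu rfl).symm
    have hp₂ : (p₀ ≫ (R t).ι) ≫ pullback.fst π v = u.1 ≫ g := by
      rw [Category.assoc, ← hs, ← Category.assoc, hp₀]
    let η₁ : Spec (.of Ω) ⟶ (O : Scheme.{u}) := IsOpenImmersion.lift O.ι η'.1 (by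
      rintro _ ⟨w, rfl⟩
      rw [Scheme.Opens.range_ι, Subsingleton.elim w (IsLocalRing.closedPoint Ω)]
      exact hO)
    let p₃ : Spec (.of Ω) ⟶ pullback π v₁ := pullback.lift (u.1 ≫ g) η₁ (by
      rw [Category.assoc, u.2, IsOpenImmersion.lift_fac_assoc, η'.2])
    have h3 : p₃ ≫ k = p₀ ≫ (R t).ι := pullback.hom_ext (by rw [Category.assoc, hk₁, pullback.lift_fst, hp₂])
      (by rw [Category.assoc, pullback.lift_snd, pullback.lift_snd_assoc, IsOpenImmersion.lift_fac]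
          exact ((Category.assoc _ _ _).trans hp₀').symm)
    have hmem : img p₃ ∈ k ⁻¹ᵁ R t := by
      show img (p₃ ≫ k) ∈ R t
      rw [h3]
      exact (img p₀).2
    refine ⟨t, ⟨img p₃, hmem⟩, ?_⟩
    show ((k ∣_ R t) ≫ s t) ⟨img p₃, hmem⟩ = _
    rw [← hp₀, img_comp, Scheme.Hom.comp_apply]
    congr 1
    apply Subtype.ext
    rw [morphismRestrict_base]
    show (p₃ ≫ k).base _ = _
    rw [h3]
    rfl

end EtSplitLib
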