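import Groth.Agent.EtLocLib.Finite

/-! Residue fields of fibre products along a morphism with trivial residue field extension. -/

set_option autoImplicit false
universe u
open AlgebraicGeometry CategoryTheory Limits IsLocalRing

namespace EtSplitLib

variable {Z S T : Scheme.{u}}

theorem bijective_residueFieldMap_fst (h : Z ⟶ S) (g : T ⟶ S) (q : ↥(pullback h g))
    (hg : Function.Bijective (g.residueFieldMap (pullback.snd h g q))) :
    Function.Bijective ((pullback.fst h g).residueFieldMap q) := by
  let z := pullback.fst h g q
  let v := pullback.snd h g q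
  haveI : IsIso (g.residueFieldMap v) := (ConcreteCategory.isIso_iff_bijective _).mpr hg
  have hzv : h z = g v := by
    change (pullback.fst h g ≫ h) q = (pullback.snd h g ≫ g) q
    rw [pullback.condition]
  let c : T.residueField v ⟶ Z.residueField z :=
    inv (g.residueFieldMap v) ≫ (S.residueFieldCongr hzv).inv ≫ h.residueFieldMap z
  have hc : (Z.fromSpecResidueField z) ≫ h = (Spec.map c ≫ T.fromSpecResidueField v) ≫ g := by
    rw [← h.SpecMap_residueFieldMap_fromSpecResidueField z, Category.assoc,
      ← g.SpecMap_residueFieldMap_fromSpecResidueField v]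
    rw [← Spec.map_comp_assoc]
    simp only [c, IsIso.hom_inv_id_assoc, Spec.map_comp, Category.assoc]
    congr 1
    exact (Scheme.residueFieldCongr_fromSpecResidueField hzv.symm).symm
  let τ : Spec (Z.residueField z) ⟶ pullback h g :=
    pullback.lift (Z.fromSpecResidueField z) (Spec.map c ≫ T.fromSpecResidueField v) hc
  let a := (pullback.fst h g).residueFieldMap q
  have h1 : Spec.map a ≫ Z.fromSpecResidueField z =
      (pullback h g).fromSpecResidueField q ≫ pullback.fst h g :=
    (pullback.fst h g).SpecMap_residueFieldMap_fromSpecResidueField q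
  have hτ : Spec.map a ≫ τ = (pullback h g).fromSpecResidueField q := by
    refine pullback.hom_ext ?_ ?_
    · rw [Category.assoc, pullback.lift_fst, h1]
    · rw [Category.assoc, pullback.lift_snd,
        ← (pullback.snd h g).SpecMap_residueFieldMap_fromSpecResidueField q,
        ← Category.assoc, ← Spec.map_comp]
      congr 2
      have h2 : Spec.map (c ≫ a) ≫ T.fromSpecResidueField v ≫ g =
          Spec.map ((pullback.snd h g).residueFieldMap q) ≫ T.fromSpecResidueField v ≫ g := by
        rw [Spec.map_comp, Category.assoc, ← Category.assoc (Spec.map c), ← hc,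
          ← Category.assoc, h1, ← Category.assoc (Spec.map _) (T.fromSpecResidueField v),
          (pullback.snd h g).SpecMap_residueFieldMap_fromSpecResidueField q, Category.assoc,
          pullback.condition, Category.assoc]
      rw [← g.SpecMap_residueFieldMap_fromSpecResidueField v, ← Spec.map_comp_assoc,
        ← Spec.map_comp_assoc, cancel_mono, Spec.map_inj, cancel_epi] at h2
      exact h2
  have hpt : ∀ s, τ s = q := fun s => by
    let s' : ↥(Spec ((pullback h g).residueField q)) := closedPoint _
    rw [@Subsingleton.elim (PrimeSpectrum (Z.residueField z)) _ s (Spec.map a s')]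
    exact (Scheme.Hom.comp_apply _ _ s').symm.trans
      ((congr($hτ s')).trans (Scheme.fromSpecResidueField_apply q s'))
  obtain ⟨b, hb⟩ : ∃ b : (pullback h g).residueField q ⟶ Z.residueField z,
      Spec.map b ≫ (pullback h g).fromSpecResidueField q = τ := by
    obtain ⟨⟨x, b⟩, hx⟩ := (Scheme.SpecToEquivOfField (Z.residueField z) (pullback h g)).symm.surjective τ
    let b' : (pullback h g).residueField x ⟶ Z.residueField z := b
    have hx' : Spec.map b' ≫ (pullback h g).fromSpecResidueField x = τ := hx
    have : x = q := by
      rw [← hpt (closedPoint _), ← hx']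
      exact ((Scheme.Hom.comp_apply _ _ _).trans (Scheme.fromSpecResidueField_apply x _)).symm
    subst this
    exact ⟨b', hx'⟩
  refine ⟨RingHom.injective _, fun y => ⟨b y, ?_⟩⟩
  have hid : b ≫ a = 𝟙 _ := by
    rw [← Spec.map_inj, ← cancel_mono ((pullback h g).fromSpecResidueField q), Spec.map_comp,
      Category.assoc, hb, hτ, Spec.map_id, Category.id_comp]
  exact congr($hid y)

end EtSplitLib
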